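import Mathlib.FieldTheory.IsAlgClosed.AlgebraicClosure
import Mathlib.RingTheory.Unramified.Field
import Mathlib.RingTheory.Flat.Basic
import Mathlib.RingTheory.IntegralClosure.IntegrallyClosed
import Mathlib.RingTheory.TensorProduct.Maps
import Mathlib.FieldTheory.Perfect
import Mathlib.FieldTheory.IntermediateField.Adjoin.Basic
import Mathlib.LinearAlgebra.Basis.VectorSpace

/-!
Elements of a field extension with equal images under all pairs of embeddings, in characteristic zero.
-/

set_option autoImplicit false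
universe u

open TensorProduct Polynomial

namespace Groth.Agent.H20Char0

variable {K L : Type u} [Field K] [Field L] [Algebra K L]

theorem isNilpotent_tmul_sub (f : L)
    (H : ∀ (Ω : Type u) [Field Ω] [IsAlgClosed Ω] (α β : L →+* Ω),
      α.comp (algebraMap K L) = β.comp (algebraMap K L) → α f = β f) :
    IsNilpotent (f ⊗ₜ[K] (1 : L) - (1 : L) ⊗ₜ[K] f) := by
  rw [nilpotent_iff_mem_prime]
  intro J hJ
  let χ : (L ⊗[K] L) →+* AlgebraicClosure (FractionRing ((L ⊗[K] L) ⧸ J)) :=
    ((algebraMap (FractionRing ((L ⊗[K] L) ⧸ J)) _).comp (algebraMap _ _)).comp (Ideal.Quotient.mk J)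
  have h := H _ (χ.comp (Algebra.TensorProduct.includeLeft : L →ₐ[K] L ⊗[K] L).toRingHom)
    (χ.comp (Algebra.TensorProduct.includeRight : L →ₐ[K] L ⊗[K] L).toRingHom) (by
      ext c
      exact congrArg χ ((AlgHom.commutes _ c).trans (AlgHom.commutes _ c).symm))
  have h' : χ (f ⊗ₜ[K] (1 : L)) = χ ((1 : L) ⊗ₜ[K] f) := h
  rw [← Ideal.Quotient.eq_zero_iff_mem, map_sub, sub_eq_zero]
  exact IsFractionRing.injective _ (FractionRing ((L ⊗[K] L) ⧸ J)) ((algebraMap _ _).injective h')

theorem mem_range_of_forall_embeddings [CharZero K] (f : L)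
    (H : ∀ (Ω : Type u) [Field Ω] [IsAlgClosed Ω] (α β : L →+* Ω),
      α.comp (algebraMap K L) = β.comp (algebraMap K L) → α f = β f) :
    f ∈ (algebraMap K L).range := by
  have hn := isNilpotent_tmul_sub f H
  by_cases hf : IsAlgebraic K f
  · haveI : FiniteDimensional K (IntermediateField.adjoin K {f}) :=
      IntermediateField.adjoin.finiteDimensional hf.isIntegral
    let M := IntermediateField.adjoin K ({f} : Set L)
    haveI : Algebra.IsSeparable K M := inferInstance
    haveI : Algebra.FormallyUnramified K M := Algebra.FormallyUnramified.of_isSeparable K M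
    haveI : IsReduced (M ⊗[K] M) := Algebra.FormallyUnramified.isReduced_of_field M (M ⊗[K] M)
    let m : M := ⟨f, IntermediateField.mem_adjoin_simple_self K f⟩
    have hinj : Function.Injective (Algebra.TensorProduct.map M.val M.val) := by
      show Function.Injective (TensorProduct.map M.val.toLinearMap M.val.toLinearMap)
      exact TensorProduct.map_injective_of_flat_flat _ _ M.val.injective M.val.injective
    have hm : IsNilpotent (m ⊗ₜ[K] (1 : M) - (1 : M) ⊗ₜ[K] m) := by
      rw [← IsNilpotent.map_iff hinj]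
      simpa [m] using hn
    have h0 : m ⊗ₜ[K] (1 : M) = (1 : M) ⊗ₜ[K] m := sub_eq_zero.1 hm.eq_zero
    obtain ⟨π, hπ⟩ := (LinearMap.toSpanSingleton K M 1).exists_leftInverse_of_injective
      (LinearMap.ker_eq_bot.2 fun a b h => (algebraMap K M).injective (by simpa [Algebra.smul_def] using h))
    have hπ1 : π 1 = 1 := by simpa using LinearMap.congr_fun hπ 1
    have h1 := congrArg (fun t => TensorProduct.lid K M (LinearMap.rTensor M π t)) h0
    simp only [LinearMap.rTensor_tmul, TensorProduct.lid_tmul, hπ1, one_smul] at h1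
    exact ⟨π m, by simpa [m, Algebra.smul_def] using congrArg M.val h1⟩
  · exfalso
    have ht : Function.Injective (aeval f : K[X] →ₐ[K] L) := transcendental_iff_injective.1 hf
    have hinj : Function.Injective (Algebra.TensorProduct.map (aeval f : K[X] →ₐ[K] L) (aeval f : K[X] →ₐ[K] L)) := by
      show Function.Injective (TensorProduct.map (aeval f : K[X] →ₐ[K] L).toLinearMap (aeval f : K[X] →ₐ[K] L).toLinearMap)
      exact TensorProduct.map_injective_of_flat_flat _ _ ht ht
    have hm : IsNilpotent ((X : K[X]) ⊗ₜ[K] (1 : K[X]) - (1 : K[X]) ⊗ₜ[K] (X : K[X])) := by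
      rw [← IsNilpotent.map_iff hinj]
      simpa using hn
    have := hm.map (Algebra.TensorProduct.lift (aeval (1 : K) : K[X] →ₐ[K] K) (aeval (0 : K))
      fun _ _ => Commute.all _ _)
    simp at this

/-- If an element of the fraction field of an integrally closed domain is not in the domain, some prime of
`A[h⁻¹]` contains `h⁻¹`. -/
theorem mem_range_of_isUnit_inv {A K' : Type u} [CommRing A] [IsDomain A] [IsIntegrallyClosed A] [Field K']
    [Algebra A K'] [IsFractionRing A K'] {h : K'} (h0 : h ≠ 0)
    (hu : IsUnit (⟨h⁻¹, Algebra.subset_adjoin rfl⟩ : Algebra.adjoin A {h⁻¹})) :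
    h ∈ (algebraMap A K').range := by
  obtain ⟨c, hc⟩ := hu.exists_right_inv
  have hcK : (c : K') = h := by
    have := congrArg Subtype.val hc
    simp only [MulMemClass.coe_mul, OneMemClass.coe_one] at this
    rwa [inv_mul_eq_one₀ h0, eq_comm] at this
  obtain ⟨p, hp⟩ : (c : K') ∈ (aeval (R := A) h⁻¹).range := by
    rw [← Algebra.adjoin_singleton_eq_range_aeval]; exact c.2
  refine IsIntegrallyClosed.isIntegral_iff.1 ⟨X ^ (p.natDegree + 1) - p.reflect p.natDegree, ?_, ?_⟩
  · exact monic_X_pow_sub (lt_of_le_of_lt degree_le_natDegree (WithBot.coe_lt_coe.2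
      (Nat.lt_succ_of_le (Polynomial.natDegree_reflect_le.trans (max_self _).le))))
  · have hp' : aeval h⁻¹ p = h := hp.trans hcK
    rw [← aeval_def, map_sub, map_pow, aeval_X]
    haveI : Invertible h⁻¹ := invertibleOfNonzero (inv_ne_zero h0)
    have := Polynomial.eval₂_reflect_mul_pow (algebraMap A K') h⁻¹ p.natDegree p le_rfl
    rw [invOf_eq_inv, inv_inv] at this
    rw [← aeval_def, ← aeval_def, hp'] at this
    have e : aeval h (p.reflect p.natDegree) * h⁻¹ ^ p.natDegree = h := this
    rw [inv_pow, mul_inv_eq_iff_eq_mul₀ (pow_ne_zero _ h0)] at e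
    rw [e, pow_succ', sub_self]

end Groth.Agent.H20Char0
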