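import Groth.Prelude.Def_W4bk4git07Quot
import Groth.Agent.H20Char0.Algebra
import Mathlib.AlgebraicGeometry.FunctionField
import Mathlib.AlgebraicGeometry.Stalk
import Mathlib.AlgebraicGeometry.Morphisms.UniversallyOpen

/-!
Invariant sections descend along open surjective invariant maps onto normal schemes with function field of
characteristic zero, when geometric fibres contain at most one orbit.
-/

set_option autoImplicit false
set_option linter.style.haveILetI false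
set_option backward.isDefEq.respectTransparency false
set_option maxHeartbeats 600000
universe u

open CategoryTheory CategoryTheory.Limits MonoidalCategory CartesianMonoidalCategory MonObj GrpObj AlgebraicGeometry
  TopologicalSpace Topology

namespace Groth.Agent.H20Char0

theorem app_injective_of_isDominant {X Y : Scheme.{u}} [IsReduced Y] (f : X ⟶ Y) [IsDominant f] (U : Y.Opens) :
    Function.Injective (f.app U) := by
  rw [injective_iff_map_eq_zero]
  intro s hs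
  refine eq_zero_of_basicOpen_eq_bot s ?_
  by_contra h
  obtain ⟨x, hx⟩ := f.denseRange.exists_mem_open (Y.basicOpen s).2 ((Opens.ne_bot_iff_nonempty _).1 h)
  have : x ∈ X.basicOpen (f.app U s) := by rw [← Scheme.preimage_basicOpen]; exact hx
  rw [hs, Scheme.basicOpen_zero] at this
  exact this

theorem appLE_fromSpecStalk {X : Scheme.{u}} (x : X) {R : CommRingCat.{u}} (α : X.presheaf.stalk x ⟶ R)
    (U : X.Opens) (hx : x ∈ U) (e : (⊤ : (Spec R).Opens) ≤ (Spec.map α ≫ X.fromSpecStalk x) ⁻¹ᵁ U) :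
    (Spec.map α ≫ X.fromSpecStalk x).appLE U ⊤ e = X.presheaf.germ U x hx ≫ α ≫ (Scheme.ΓSpecIso R).inv := by
  simp only [Scheme.Hom.appLE, Scheme.Hom.comp_app, Scheme.fromSpecStalk_app hx, Category.assoc,
    Scheme.Hom.naturality_assoc, ← Functor.map_comp]
  rw [Scheme.ΓSpecIso_inv_naturality]
  rfl

theorem basicOpen_mul_zero {X : Scheme.{u}} {U : X.Opens} (a b : Γ(X, U)) (h : a * b = 0) :
    X.basicOpen a ⊓ X.basicOpen b = ⊥ := by rw [← Scheme.basicOpen_mul, h, Scheme.basicOpen_zero]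

theorem naturality_apply' {X Y : Scheme.{u}} (f : X ⟶ Y) {U U' : Y.Opens} (h : U ≤ U') (s : Γ(Y, U')) :
    f.app U (Y.presheaf.map (homOfLE h).op s) = X.presheaf.map (homOfLE (f.preimage_mono h)).op (f.app U' s) :=
  ConcreteCategory.congr_hom (f.naturality (homOfLE h).op) s

theorem appTop_notMem {P : Scheme.{u}} {B : CommRingCat.{u}} (π : P ⟶ Spec B) (z : P) (g : B)
    (hg : g ∈ (π z).asIdeal) : z ∉ P.basicOpen (π.appTop ((Scheme.ΓSpecIso B).inv g)) := by
  rw [← Scheme.preimage_basicOpen_top, basicOpen_eq_of_affine]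
  exact fun h => h hg

/-- regularity of a rational function pulled back to a regular one -/
theorem mem_range_of_regular {X Y : Scheme.{u}} [IsIntegral X] [IsIntegral Y] (f : X ⟶ Y) [UniversallyOpen f]
    [Surjective f] {V : Y.Opens} (hV : IsAffineOpen V) [Nonempty V] [IsIntegrallyClosed Γ(Y, V)]
    (F : Γ(X, f ⁻¹ᵁ V)) (h : Y.functionField) (p s : Γ(Y, V)) (hs : s ≠ 0)
    (hh : h * Y.germToFunctionField V s = Y.germToFunctionField V p)
    (hF : F * f.app V s = f.app V p) : ∃ t : Γ(Y, V), Y.germToFunctionField V t = h := by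
  haveI := functionField_isFractionRing_of_isAffineOpen Y V hV
  by_cases h0 : h = 0
  · exact ⟨0, by rw [map_zero, h0]⟩
  change h ∈ (algebraMap Γ(Y, V) Y.functionField).range
  refine mem_range_of_isUnit_inv h0 ?_
  by_contra hu
  let B := Algebra.adjoin Γ(Y, V) ({h⁻¹} : Set Y.functionField)
  let g : B := ⟨h⁻¹, Algebra.subset_adjoin rfl⟩
  obtain ⟨P, hP, hgP⟩ := exists_max_ideal_of_mem_nonunits (show g ∈ nonunits B from hu)
  let iB : Γ(Y, V) ⟶ CommRingCat.of B := CommRingCat.ofHom (algebraMap Γ(Y, V) B)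
  let b : Spec (CommRingCat.of B) ⟶ Y := Spec.map iB ≫ hV.fromSpec
  let π := pullback.snd f b
  let q := pullback.fst f b
  have hb : (⊤ : (Spec (CommRingCat.of B)).Opens) ≤ b ⁻¹ᵁ V := fun x _ => by
    show hV.fromSpec (Spec.map iB x) ∈ (V : Set Y)
    rw [← hV.range_fromSpec]
    exact ⟨_, rfl⟩
  have hq : (⊤ : (pullback f b).Opens) ≤ q ⁻¹ᵁ (f ⁻¹ᵁ V) := fun w _ => by
    show (q ≫ f) w ∈ V
    rw [pullback.condition]
    exact hb (Set.mem_univ _)
  let Q : Γ(X, f ⁻¹ᵁ V) →+* Γ(pullback f b, ⊤) := (q.appLE (f ⁻¹ᵁ V) ⊤ hq).hom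
  let ρ : B →+* Γ(pullback f b, ⊤) := ((Scheme.ΓSpecIso (CommRingCat.of B)).inv ≫ π.appTop).hom
  have hcomp : f.app V ≫ q.appLE (f ⁻¹ᵁ V) ⊤ hq = iB ≫ (Scheme.ΓSpecIso (CommRingCat.of B)).inv ≫ π.appTop := by
    rw [f.app_eq_appLE, Scheme.Hom.appLE_comp_appLE]
    simp only [q, pullback.condition]
    have hbV : b.appLE V ⊤ hb = iB ≫ (Scheme.ΓSpecIso (CommRingCat.of B)).inv := by
      have e0 : (⊤ : (Spec Γ(Y, V)).Opens) ≤ hV.fromSpec ⁻¹ᵁ V := hV.fromSpec_preimage_self.ge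
      have e1 : hV.fromSpec.appLE V ⊤ e0 = (Scheme.ΓSpecIso Γ(Y, V)).inv := by
        simp [Scheme.Hom.appLE, hV.fromSpec_app_self, ← Functor.map_comp]
      have e2 : (Spec.map iB).appLE ⊤ ⊤ le_rfl = (Spec.map iB).appTop := by
        simp [Scheme.Hom.appLE]
      rw [← Scheme.Hom.appLE_comp_appLE (Spec.map iB) hV.fromSpec V ⊤ ⊤ e0 le_rfl, e1, e2,
        ← Scheme.ΓSpecIso_inv_naturality]
    have hπ : π.appLE ⊤ ⊤ le_rfl = π.appTop := by simp [Scheme.Hom.appLE]
    rw [← Scheme.Hom.appLE_comp_appLE π b V ⊤ ⊤ hb le_rfl, hbV, hπ, Category.assoc]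
  have hcomp' : ∀ t, Q (f.app V t) = ρ (algebraMap Γ(Y, V) B t) := fun t =>
    congrArg (fun m => (m : Γ(Y, V) ⟶ Γ(pullback f b, ⊤)) t) hcomp
  have hg : g * algebraMap Γ(Y, V) B p = algebraMap Γ(Y, V) B s := Subtype.ext (by
    show h⁻¹ * Y.germToFunctionField V p = Y.germToFunctionField V s
    rw [← hh, inv_mul_cancel_left₀ h0])
  have hz : (Q F * ρ g - 1) * ρ (algebraMap Γ(Y, V) B s) = 0 := by
    have e : Q F * ρ (algebraMap Γ(Y, V) B s) = ρ (algebraMap Γ(Y, V) B p) := by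
      rw [← hcomp', ← map_mul, hF, hcomp']
    calc (Q F * ρ g - 1) * ρ (algebraMap Γ(Y, V) B s)
        = ρ g * (Q F * ρ (algebraMap Γ(Y, V) B s)) - ρ (algebraMap Γ(Y, V) B s) := by ring
      _ = 0 := by rw [e, ← map_mul, hg, sub_self]
  obtain ⟨z, hz'⟩ := π.surjective ⟨P, hP.isPrime⟩
  let O := (pullback f b).basicOpen (Q F * ρ g - 1)
  have hzO : z ∈ O := by
    have hz'' : ¬ IsUnit ((pullback f b).presheaf.germ ⊤ z trivial (Q F * ρ g)) := by
      rw [← Scheme.mem_basicOpen _ _ z (show z ∈ (⊤ : (pullback f b).Opens) from trivial), Scheme.basicOpen_mul]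
      exact fun h => appTop_notMem π z g (by rw [hz']; exact hgP) h.2
    rw [Scheme.mem_basicOpen _ _ z (show z ∈ (⊤ : (pullback f b).Opens) from trivial), map_sub, map_one, ← IsUnit.neg_iff, neg_sub]
    exact (IsLocalRing.isUnit_or_isUnit_one_sub_self _).resolve_left hz''
  have hdom : algebraMap Γ(Y, V) B s ≠ 0 := fun e => hs ((IsFractionRing.injective Γ(Y, V) Y.functionField)
    ((congrArg Subtype.val e).trans (map_zero _).symm))
  haveI : IrreducibleSpace (Spec (CommRingCat.of B)) := inferInstanceAs (IrreducibleSpace (PrimeSpectrum B))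
  obtain ⟨_, ⟨w, hw, rfl⟩, hw'⟩ := nonempty_preirreducible_inter (π.isOpenMap _ O.2)
    (PrimeSpectrum.isOpen_basicOpen (a := algebraMap Γ(Y, V) B s)) ⟨_, z, hzO, rfl⟩
    (by
      obtain ⟨x, hx⟩ : ∃ x : PrimeSpectrum B, x ∈ PrimeSpectrum.basicOpen (algebraMap Γ(Y, V) B s) :=
        ⟨⟨⊥, Ideal.isPrime_bot⟩, fun h => hdom (by simpa using h)⟩
      exact ⟨x, hx⟩)
  have h2 : w ∈ (pullback f b).basicOpen (ρ (algebraMap Γ(Y, V) B s)) := by
    show w ∈ (pullback f b).basicOpen (π.appTop ((Scheme.ΓSpecIso (CommRingCat.of B)).inv _))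
    rw [← Scheme.preimage_basicOpen_top, basicOpen_eq_of_affine]
    exact hw'
  exact (basicOpen_mul_zero _ _ hz).le ⟨hw, h2⟩

variable {S : Scheme.{u}} {G X Y : Over S} [GrpObj G] {a : AlgGrp.Action G X} {φ : X ⟶ Y}

theorem isInvSection_restrict {U V : Y.left.Opens} (e : V ≤ U) {f : Γ(X.left, φ.left ⁻¹ᵁ U)}
    (hf : GIT.IsInvSection a φ U f) :
    GIT.IsInvSection a φ V (X.left.presheaf.map (homOfLE (φ.left.preimage_mono e)).op f) := by
  unfold GIT.IsInvSection at hf ⊢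
  rw [← CommRingCat.comp_apply, ← CommRingCat.comp_apply, Scheme.Hom.map_appLE, Scheme.Hom.map_appLE]
  have h := congrArg ((G ⊗ X).left.presheaf.map (homOfLE (inf_le_inf (a.act.left.preimage_mono
    (φ.left.preimage_mono e)) ((snd G X).left.preimage_mono (φ.left.preimage_mono e)))).op) hf
  rwa [← CommRingCat.comp_apply, ← CommRingCat.comp_apply, Scheme.Hom.appLE_map, Scheme.Hom.appLE_map] at h

/-- geometric points with the same image agree on invariant sections -/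
theorem appLE_eq_of_invariant
    (hii : ∀ (Ω : Type u) [Field Ω] [IsAlgClosed Ω] (T : Over S) (_ : T.left ≅ Spec (CommRingCat.of Ω))
      (x₁ x₂ : T ⟶ X), x₁ ≫ φ = x₂ ≫ φ → ∃ g : T ⟶ G, lift g x₂ ≫ a.act = x₁)
    {Ω : Type u} [Field Ω] [IsAlgClosed Ω] (y₁ y₂ : Spec (CommRingCat.of Ω) ⟶ X.left)
    (hy : y₁ ≫ φ.left = y₂ ≫ φ.left) {U : Y.left.Opens} {f : Γ(X.left, φ.left ⁻¹ᵁ U)}
    (hf : GIT.IsInvSection a φ U f) (e₁ : ⊤ ≤ y₁ ⁻¹ᵁ (φ.left ⁻¹ᵁ U)) (e₂ : ⊤ ≤ y₂ ⁻¹ᵁ (φ.left ⁻¹ᵁ U)) :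
    y₁.appLE _ ⊤ e₁ f = y₂.appLE _ ⊤ e₂ f := by
  let T : Over S := Over.mk (y₁ ≫ X.hom)
  let x₁ : T ⟶ X := Over.homMk y₁ rfl
  let x₂ : T ⟶ X := Over.homMk y₂ (by
    show y₂ ≫ X.hom = y₁ ≫ X.hom
    rw [← Over.w φ, ← Category.assoc, ← hy, Category.assoc])
  obtain ⟨g, hg⟩ := hii Ω T (Iso.refl _) x₁ x₂ (Over.OverMorphism.ext hy)
  let u : Spec (CommRingCat.of Ω) ⟶ (G ⊗ X).left := (lift g x₂).left
  have h1 : u ≫ a.act.left = y₁ := congrArg CommaMorphism.left hg
  have h2 : u ≫ (snd G X).left = y₂ := congrArg CommaMorphism.left (lift_snd g x₂)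
  have key : ∀ z₁ z₂, u ≫ a.act.left = z₁ → u ≫ (snd G X).left = z₂ → ∀ (c₁ : ⊤ ≤ z₁ ⁻¹ᵁ (φ.left ⁻¹ᵁ U))
      (c₂ : ⊤ ≤ z₂ ⁻¹ᵁ (φ.left ⁻¹ᵁ U)), z₁.appLE _ ⊤ c₁ f = z₂.appLE _ ⊤ c₂ f := by
    rintro _ _ rfl rfl c₁ c₂
    have e : ⊤ ≤ u ⁻¹ᵁ (a.act.left ⁻¹ᵁ (φ.left ⁻¹ᵁ U) ⊓ (snd G X).left ⁻¹ᵁ (φ.left ⁻¹ᵁ U)) :=
      fun x hx => ⟨c₁ hx, c₂ hx⟩
    have h := congrArg (u.appLE _ ⊤ e) hf
    rwa [← CommRingCat.comp_apply, ← CommRingCat.comp_apply, Scheme.Hom.appLE_comp_appLE,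
      Scheme.Hom.appLE_comp_appLE] at h
  exact key y₁ y₂ h1 h2 e₁ e₂

theorem mem_range_app_of_affine [IsIntegral X.left] [IsIntegral Y.left] [CharZero Y.left.functionField]
    [IsDominant φ.left] [UniversallyOpen φ.left] [Surjective φ.left]
    (hii : ∀ (Ω : Type u) [Field Ω] [IsAlgClosed Ω] (T : Over S) (_ : T.left ≅ Spec (CommRingCat.of Ω))
      (x₁ x₂ : T ⟶ X), x₁ ≫ φ = x₂ ≫ φ → ∃ g : T ⟶ G, lift g x₂ ≫ a.act = x₁)
    {V : Y.left.Opens} (hV : IsAffineOpen V) [Nonempty V] [IsIntegrallyClosed Γ(Y.left, V)]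
    (f : Γ(X.left, φ.left ⁻¹ᵁ V)) (hf : GIT.IsInvSection a φ V f) : f ∈ Set.range (φ.left.app V) := by
  haveI := functionField_isFractionRing_of_isAffineOpen Y.left V hV
  obtain ⟨x₀, hx₀⟩ := φ.left.surjective (Classical.arbitrary V).1
  have hξ : genericPoint X.left ∈ φ.left ⁻¹ᵁ V :=
    ((genericPoint_spec X.left).mem_open_set_iff (φ.left ⁻¹ᵁ V).2).2
      ⟨x₀, trivial, by show φ.left x₀ ∈ V; rw [hx₀]; exact (Classical.arbitrary V).2⟩
  let γ := X.left.presheaf.germ (φ.left ⁻¹ᵁ V) (genericPoint X.left) hξ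
  have hγ : Function.Injective γ := germ_injective_of_isIntegral X.left _ _
  let ψ : Γ(Y.left, V) →+* X.left.functionField := (φ.left.app V ≫ γ).hom
  have hψ : Function.Injective ψ := hγ.comp (app_injective_of_isDominant φ.left V)
  letI : Algebra Y.left.functionField X.left.functionField := (IsFractionRing.lift hψ).toAlgebra
  have hι : ∀ t, algebraMap Y.left.functionField X.left.functionField (Y.left.germToFunctionField V t) = ψ t :=
    fun t => IsFractionRing.lift_algebraMap hψ t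
  obtain ⟨h, hh⟩ := mem_range_of_forall_embeddings (K := Y.left.functionField) (γ f) (by
    intro Ω _ _ α β hαβ
    let y₁ := Spec.map (CommRingCat.ofHom α) ≫ X.left.fromSpecStalk (genericPoint X.left)
    let y₂ := Spec.map (CommRingCat.ofHom β) ≫ X.left.fromSpecStalk (genericPoint X.left)
    have hy : y₁ ≫ φ.left = y₂ ≫ φ.left := by
      simp only [y₁, y₂, Category.assoc, ← Scheme.SpecMap_stalkMap_fromSpecStalk,
        ← hV.fromSpecStalk_eq_fromSpecStalk hξ, IsAffineOpen.fromSpecStalk, ← Spec.map_comp_assoc]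
      congr 2
      ext t
      have ht := RingHom.congr_fun hαβ (Y.left.germToFunctionField V t)
      simp only [RingHom.comp_apply, hι] at ht
      simpa [ψ, γ, Scheme.Hom.germ_stalkMap_apply] using ht
    have hmem : ∀ (δ : CommRingCat.of X.left.functionField ⟶ CommRingCat.of Ω),
        ⊤ ≤ (Spec.map δ ≫ X.left.fromSpecStalk (genericPoint X.left)) ⁻¹ᵁ (φ.left ⁻¹ᵁ V) := fun δ x _ => by
      have hr : X.left.fromSpecStalk (genericPoint X.left) (Spec.map δ x) ∈
          Set.range (X.left.fromSpecStalk (genericPoint X.left)) := ⟨_, rfl⟩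
      rw [Scheme.range_fromSpecStalk] at hr
      exact hr.mem_open (φ.left ⁻¹ᵁ V).2 hξ
    have h := appLE_eq_of_invariant hii y₁ y₂ hy hf (hmem _) (hmem _)
    rw [appLE_fromSpecStalk _ _ _ hξ, appLE_fromSpecStalk _ _ _ hξ] at h
    exact (Scheme.ΓSpecIso (CommRingCat.of Ω)).commRingCatIsoToRingEquiv.symm.injective h)
  obtain ⟨p, s, hs, hps⟩ := IsFractionRing.div_surjective Γ(Y.left, V) h
  have hs0 : s ≠ 0 := nonZeroDivisors.ne_zero hs
  have hh' : h * Y.left.germToFunctionField V s = Y.left.germToFunctionField V p := by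
    rw [← hps]
    exact div_mul_cancel₀ _ fun e => hs0 (IsFractionRing.injective Γ(Y.left, V) Y.left.functionField
      (e.trans (map_zero _).symm))
  have hF : f * φ.left.app V s = φ.left.app V p := hγ (by
    have := congrArg (algebraMap Y.left.functionField X.left.functionField) hh'
    rw [map_mul, hh, hι, hι] at this
    rw [map_mul]
    exact this)
  obtain ⟨t, ht⟩ := mem_range_of_regular φ.left hV f h p s hs0 hh' hF
  refine ⟨t, hγ ?_⟩
  rw [← hh, ← ht, hι]
  rfl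

theorem sections_of_one_orbit [IsIntegral X.left] [IsIntegral Y.left] [CharZero Y.left.functionField]
    [IsDominant φ.left] [UniversallyOpen φ.left] [Surjective φ.left]
    (hY : ∀ U : Y.left.affineOpens, IsIntegrallyClosed Γ(Y.left, U))
    (hii : ∀ (Ω : Type u) [Field Ω] [IsAlgClosed Ω] (T : Over S) (_ : T.left ≅ Spec (CommRingCat.of Ω))
      (x₁ x₂ : T ⟶ X), x₁ ≫ φ = x₂ ≫ φ → ∃ g : T ⟶ G, lift g x₂ ≫ a.act = x₁)
    (hi : GIT.IsInvariant a φ) (U : Y.left.Opens) :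
    Function.Injective (φ.left.app U) ∧ Set.range (φ.left.app U) = {f | GIT.IsInvSection a φ U f} := by
  refine ⟨app_injective_of_isDominant φ.left U, Set.ext fun f => ⟨?_, fun hf => ?_⟩⟩
  · rintro ⟨s, rfl⟩
    show GIT.IsInvSection a φ U _
    unfold GIT.IsInvSection
    rw [φ.left.app_eq_appLE, ← CommRingCat.comp_apply, ← CommRingCat.comp_apply, Scheme.Hom.appLE_comp_appLE,
      Scheme.Hom.appLE_comp_appLE]
    congr 3
    exact hi.left
  · let Idx := {V : Y.left.affineOpens // (V : Y.left.Opens) ≤ U ∧ Nonempty (V : Y.left.Opens)}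
    have hloc : ∀ V : Idx, ∃ t : Γ(Y.left, V.1), φ.left.app V.1 t =
        X.left.presheaf.map (homOfLE (φ.left.preimage_mono V.2.1)).op f := fun V => by
      haveI := V.2.2
      haveI := hY V.1
      exact mem_range_app_of_affine hii V.1.2 _ (isInvSection_restrict V.2.1 hf)
    choose t ht using hloc
    have hcov : U ≤ ⨆ V : Idx, (V.1 : Y.left.Opens) := fun y hy => by
      obtain ⟨W, hW, hyW, hWU⟩ := exists_isAffineOpen_mem_and_subset hy
      exact Opens.mem_iSup.2 ⟨⟨⟨W, hW⟩, hWU, ⟨y, hyW⟩⟩, hyW⟩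
    obtain ⟨s, hs, -⟩ := Y.left.sheaf.existsUnique_gluing' (fun V : Idx => (V.1 : Y.left.Opens)) U
      (fun V => homOfLE V.2.1) hcov t fun V W => app_injective_of_isDominant φ.left _ (by
        refine ((naturality_apply' φ.left inf_le_left _).trans ?_).trans (naturality_apply' φ.left inf_le_right _).symm
        rw [ht, ht, ← CommRingCat.comp_apply, ← CommRingCat.comp_apply, ← Functor.map_comp, ← Functor.map_comp]
        rfl)
    refine ⟨s, X.left.sheaf.eq_of_locally_eq' (fun V : Idx => φ.left ⁻¹ᵁ (V.1 : Y.left.Opens)) (φ.left ⁻¹ᵁ U)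
      (fun V => homOfLE (φ.left.preimage_mono V.2.1)) (by rw [← Scheme.Hom.preimage_iSup]; exact φ.left.preimage_mono hcov)
      _ _ fun V => ?_⟩
    exact ((naturality_apply' φ.left V.2.1 s).symm.trans (congrArg (φ.left.app _) (hs V))).trans (ht V)

end Groth.Agent.H20Char0
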