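import Groth.Prelude.Def_W4bk4git07Quot
import Groth.Agent.H06EGA14.Chevalley4
import Groth.Agent.H06EGA14.OpenFibreDim
import Groth.Agent.H06EGA14.UnivOpenNormal
import Groth.Agent.H06EGA14.FiniteBaseChangeAlgebra
import Groth.Agent.H3CAlg.PruferFibreDim
import Groth.Agent.H8Props.FieldDimFibre
import Groth.Agent.H06EGA15.GeomPoints

/-!
Invariant morphisms whose geometric fibres contain at most one orbit are universally open over normal bases.
-/

set_option autoImplicit false
set_option linter.style.haveILetI false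
set_option backward.isDefEq.respectTransparency false
universe u

open CategoryTheory CategoryTheory.Limits MonoidalCategory CartesianMonoidalCategory MonObj GrpObj AlgebraicGeometry
  TopologicalSpace Topology

namespace Groth.Agent.H20Char0

variable {S : Scheme.{u}} {G X Y : Over S} [GrpObj G] {a : AlgGrp.Action G X} {φ : X ⟶ Y}

/-- One orbit in every geometric fibre: `Ψ_Y` is surjective. -/
theorem surjective_PsiY (hi : GIT.IsInvariant a φ)
    (hii : ∀ (Ω : Type u) [Field Ω] [IsAlgClosed Ω] (T : Over S) (_ : T.left ≅ Spec (CommRingCat.of Ω))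
      (x₁ x₂ : T ⟶ X), x₁ ≫ φ = x₂ ≫ φ → ∃ g : T ⟶ G, lift g x₂ ≫ a.act = x₁) :
    Function.Surjective (GIT.PsiY a φ hi).base := by
  intro z
  obtain ⟨Ω, _, _, p, hp⟩ := H06EGA15.exists_geometric_point z
  let T : Over S := Over.mk (p ≫ pullback.fst φ.left φ.left ≫ X.hom)
  let x₁ : T ⟶ X := Over.homMk (p ≫ pullback.fst φ.left φ.left) (Category.assoc _ _ _)
  let x₂ : T ⟶ X := Over.homMk (p ≫ pullback.snd φ.left φ.left) (by
    show (p ≫ pullback.snd φ.left φ.left) ≫ X.hom = p ≫ pullback.fst φ.left φ.left ≫ X.hom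
    rw [← Over.w φ, Category.assoc, pullback.condition_assoc])
  obtain ⟨g, hg⟩ := hii Ω T (Iso.refl _) x₁ x₂ (Over.OverMorphism.ext (by
    simp only [Over.comp_left, x₁, x₂, Over.homMk_left, Category.assoc, pullback.condition]))
  refine ⟨(lift g x₂).left (IsLocalRing.closedPoint Ω), ?_⟩
  have e : (lift g x₂).left ≫ GIT.PsiY a φ hi = p := by
    apply pullback.hom_ext
    · rw [Category.assoc, GIT.PsiY, pullback.lift_fst, ← Over.comp_left, hg]; rfl
    · rw [Category.assoc, GIT.PsiY, pullback.lift_snd, ← Over.comp_left, lift_snd]; rfl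
  rw [← hp]
  exact congrArg (fun m : T.left ⟶ pullback φ.left φ.left => m (IsLocalRing.closedPoint Ω)) e

theorem universallyOpen_snd_of_surjective_PsiY (hi : GIT.IsInvariant a φ) [UniversallyOpen G.hom]
    (ho : Function.Surjective (GIT.PsiY a φ hi).base) : UniversallyOpen (pullback.snd φ.left φ.left) := by
  haveI : Surjective (GIT.PsiY a φ hi) := ⟨ho⟩
  haveI : UniversallyOpen (GIT.PsiY a φ hi ≫ pullback.snd φ.left φ.left) := by
    rw [GIT.PsiY, pullback.lift_snd]
    show UniversallyOpen (pullback.snd G.hom X.hom)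
    infer_instance
  exact H06EGA14.universallyOpen_of_comp_surjective (GIT.PsiY a φ hi) _

theorem isGeomUnibranch_stalk {Z : Scheme.{u}} [IsIntegral Z]
    (hZ : ∀ U : Z.affineOpens, IsIntegrallyClosed Γ(Z, U)) (z : Z) : CAlg2.IsGeomUnibranch (Z.presheaf.stalk z) := by
  obtain ⟨V, hV, hzV, -⟩ := exists_isAffineOpen_mem_and_subset (Set.mem_univ z) (U := (⊤ : Z.Opens))
  haveI : Nonempty V := ⟨⟨z, hzV⟩⟩
  letI : Algebra Γ(Z, V) (Z.presheaf.stalk z) := (Z.presheaf.germ V z hzV).hom.toAlgebra
  haveI : IsLocalization.AtPrime (Z.presheaf.stalk z) (hV.primeIdealOf ⟨z, hzV⟩).asIdeal :=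
    hV.isLocalization_stalk ⟨z, hzV⟩
  haveI := hZ ⟨V, hV⟩
  haveI : IsIntegrallyClosed (Z.presheaf.stalk z) :=
    isIntegrallyClosed_of_isLocalization _ (hV.primeIdealOf ⟨z, hzV⟩).asIdeal.primeCompl
      (Ideal.primeCompl_le_nonZeroDivisors _)
  exact H06EGA14.isGeomUnibranch_of_isIntegrallyClosed _

/-- A dominant morphism to a normal base whose self product is universally open over the source is universally open. -/
theorem universallyOpen_of_snd {X Y : Scheme.{u}} [IsIntegral X] [IsLocallyNoetherian X] [IsIntegral Y]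
    (hY : ∀ U : Y.affineOpens, IsIntegrallyClosed Γ(Y, U)) (f : X ⟶ Y) [LocallyOfFiniteType f] [IsDominant f]
    [UniversallyOpen (pullback.snd f f)] : UniversallyOpen f := by
  have hgen : IsGenericPoint (f (genericPoint X)) (⊤ : Set Y) := by
    have h := (genericPoint_spec X).image f.continuous
    rw [Set.image_univ, f.denseRange.closure_range] at h
    exact h
  refine H06EGA14.universallyOpen_of_irreducible (isGeomUnibranch_stalk hY) f
    (fun w hw => (hw.antisymm (hgen.specializes trivial)).eq) fun x => ?_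
  haveI : LocallyOfFiniteType (pullback.snd f f) := inferInstance
  calc FlatMor.fibreDimAt f x ≤ topologicalKrullDim (f.fiber (f x)) :=
        H3CAlg.PruferFibreDim.fibreDimAt_le_dim f x
    _ = topologicalKrullDim ((pullback.snd f f).fiber x) :=
        (H8Props.FieldDim.dim_fiber_baseChange f (IsPullback.of_hasPullback f f) x).symm
    _ ≤ topologicalKrullDim ((pullback.snd f f).fiber (genericPoint X)) :=
        H06EGA14.dim_fiber_le_of_isOpenMap _ (pullback.snd f f).isOpenMap
          ((genericPoint_spec X).specializes trivial)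
    _ = topologicalKrullDim (f.fiber (f (genericPoint X))) :=
        H8Props.FieldDim.dim_fiber_baseChange f (IsPullback.of_hasPullback f f) _
    _ ≤ _ := H3CAlg.PruferFibreDim.dim_fiber_le_cdim f (genericPoint X)
        fun z _ => (genericPoint_spec X).specializes trivial

theorem isUnivSubmersive_of_universallyOpen {A B : Scheme.{u}} (f : A ⟶ B) [UniversallyOpen f] [Surjective f] :
    GIT.IsUnivSubmersive f := by
  intro A' B' i₁ i₂ f' hsq
  haveI : UniversallyOpen f' := MorphismProperty.of_isPullback hsq.flip ‹_›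
  haveI : Surjective f' := MorphismProperty.of_isPullback hsq.flip ‹_›
  exact f'.isOpenMap.isQuotientMap f'.continuous f'.surjective

end Groth.Agent.H20Char0
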